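import Groth.Agent.Lib.CmpBig24.Main
import Groth.Agent.Lib.FppfPi24.Basic
import Groth.Agent.Lib.BigSite16.Res
import Groth.Agent.S12238
import Groth.Agent.S1379
import Groth.Agent.S6184
import Groth.Prelude.Def_WeakSerre

/-! Comparison of the étale and fppf topologies on the big sites: `R^i ε_* π^{-1} F = 0`. -/

universe u

open CategoryTheory CategoryTheory.Limits AlgebraicGeometry Opposite

set_option linter.style.haveILetI false
set_option linter.unusedSectionVars false
set_option backward.isDefEq.respectTransparency false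
set_option backward.isDefEq.respectTransparency.types false

namespace Groth.Agent.CmpBig24.FppfEt

/-- the étale topology is coarser than the fppf one -/
theorem le : Scheme.etalePrecoverage.{u}.toGrothendieck ≤ Scheme.fppfPrecoverage.{u}.toGrothendieck :=
  Precoverage.toGrothendieck_mono BigSite.etalePrecoverage_le_fppfPrecoverage

/-- sheaves coming from the small étale site -/
abbrev fromEt (X : Scheme.{u}) : ObjectProperty (BigSite.Ab Scheme.etalePrecoverage X) :=
  (BigSite.piEtPull Scheme.etalePrecoverage X).essImage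

abbrev P : MorphismProperty Scheme.{u} := fun _ _ f => IsFinite f

variable {X Y : Scheme.{u}}

instance isIso_unit_app (F : EtCoh.Ab X) : IsIso ((BigSite.piEtAdj Scheme.etalePrecoverage X).unit.app F) :=
  (Groth.Agent.S6184.result X).2 F

instance additive_piEtPull : (BigSite.piEtPull Scheme.etalePrecoverage X).Additive :=
  (BigSite.piEtAdj Scheme.etalePrecoverage X).left_adjoint_additive

instance preservesFiniteColimits_piEtPull : PreservesFiniteColimits (BigSite.piEtPull Scheme.etalePrecoverage X) :=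
  haveI := (BigSite.piEtAdj Scheme.etalePrecoverage X).isLeftAdjoint
  inferInstance

theorem isIso_counit {G : BigSite.Ab Scheme.etalePrecoverage X} (hG : fromEt X G) :
    IsIso ((BigSite.piEtAdj Scheme.etalePrecoverage X).counit.app G) := by
  obtain ⟨F, ⟨e⟩⟩ := hG
  refine (NatTrans.isIso_app_iff_of_iso _ e).1 ?_
  exact IsIso.of_isIso_fac_left ((BigSite.piEtAdj Scheme.etalePrecoverage X).left_triangle_components F)

instance isWeakSerre_fromEt (X : Scheme.{u}) : WSerre.IsWeakSerre (fromEt X) := by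
  let π := BigSite.piEtPull Scheme.etalePrecoverage X
  let adj := BigSite.piEtAdj Scheme.etalePrecoverage X
  haveI : IsIso adj.unit := NatIso.isIso_of_isIso_app _
  haveI : π.Full := adj.fullyFaithfulLOfIsIsoUnit.full
  haveI : π.Faithful := adj.fullyFaithfulLOfIsIsoUnit.faithful
  refine { toContainsZero := ?_, toIsClosedUnderKernels := ?_, toIsClosedUnderCokernels := ?_,
           toIsClosedUnderExtensions := ?_ }
  · obtain ⟨Z, hZ⟩ := HasZeroObject.zero (C := EtCoh.Ab X)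
    exact ⟨π.obj Z, π.map_isZero hZ, Z, ⟨Iso.refl _⟩⟩
  · refine ⟨?_⟩
    rintro _ ⟨f, k, hk, ⟨A, ⟨eA⟩⟩, ⟨B, ⟨eB⟩⟩⟩
    obtain ⟨g, hg⟩ := π.map_surjective (eA.hom ≫ f ≫ eB.inv)
    exact ⟨kernel g, ⟨PreservesKernel.iso _ g ≪≫ kernel.mapIso _ _ eA eB (by rw [hg]; simp) ≪≫
      IsLimit.conePointUniqueUpToIso (limit.isLimit (parallelPair f 0)) hk⟩⟩
  · refine ⟨?_⟩
    rintro _ ⟨f, k, hk, ⟨A, ⟨eA⟩⟩, ⟨B, ⟨eB⟩⟩⟩
    obtain ⟨g, hg⟩ := π.map_surjective (eA.hom ≫ f ≫ eB.inv)
    exact ⟨cokernel g, ⟨PreservesCokernel.iso _ g ≪≫ cokernel.mapIso _ _ eA eB (by rw [hg]; simp) ≪≫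
      IsColimit.coconePointUniqueUpToIso (colimit.isColimit (parallelPair f 0)) hk⟩⟩
  · refine ⟨fun {T} hT h₁ h₃ => ?_⟩
    let res := BigSite.resEt Scheme.etalePrecoverage X
    let ψ : (T.map res).map π ⟶ T :=
      { τ₁ := adj.counit.app T.X₁
        τ₂ := adj.counit.app T.X₂
        τ₃ := adj.counit.app T.X₃
        comm₁₂ := (adj.counit.naturality T.f).symm
        comm₂₃ := (adj.counit.naturality T.g).symm }
    haveI : IsIso ψ.τ₁ := isIso_counit h₁
    haveI : IsIso ψ.τ₃ := isIso_counit h₃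
    haveI := ShortComplex.isIso₂_of_shortExact_of_isIso₁₃ ψ ((hT.map_of_exact res).map_of_exact π) hT
    exact ⟨res.obj T.X₂, ⟨asIso ψ.τ₂⟩⟩

theorem fromEt_pullBig (f : X ⟶ Y) (G : BigSite.Ab Scheme.etalePrecoverage Y) (hG : fromEt Y G) :
    fromEt X ((BigSite.pullBig Scheme.etalePrecoverage f AddCommGrpCat.{u + 1}).obj G) := by
  obtain ⟨F, ⟨e⟩⟩ := hG
  let e1 : BigSite.pushBig Scheme.etalePrecoverage f AddCommGrpCat.{u + 1} ⋙ BigSite.resEt Scheme.etalePrecoverage Y ≅
      BigSite.resEt Scheme.etalePrecoverage X ⋙ EtCoh.push f :=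
    SmallBigBC16.e1 AddCommGrpCat.{u + 1} f
  let e2 := Adjunction.leftAdjointUniq
    ((BigSite.piEtAdj Scheme.etalePrecoverage Y).comp (BigSite.bigAdj Scheme.etalePrecoverage f AddCommGrpCat.{u + 1}))
    (((EtCoh.pullPushAdj f).comp (BigSite.piEtAdj Scheme.etalePrecoverage X)).ofNatIsoRight e1.symm)
  exact ⟨(EtCoh.pull f).obj F, ⟨(e2.app F).symm ≪≫
    (BigSite.pullBig Scheme.etalePrecoverage f AddCommGrpCat.{u + 1}).mapIso e⟩⟩

theorem isSheaf_fppf_of_fromEt (G : BigSite.Ab Scheme.etalePrecoverage X) (hG : fromEt X G) :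
    Presheaf.IsSheaf (EtFppf.J X) G.obj := by
  obtain ⟨F, ⟨e⟩⟩ := hG
  exact (Presheaf.isSheaf_of_iso_iff ((sheafToPresheaf _ _).mapIso e)).1 ((FppfPi24.piFppf X).obj F).property

theorem sit : Sit (C := Scheme.{u}) (J := Scheme.fppfPrecoverage.toGrothendieck)
    (J' := Scheme.etalePrecoverage.toGrothendieck) P fromEt where
  h1 X Y f hf Y' g := by
    refine ⟨pullback g f, pullback.fst g f, pullback.snd g f, IsPullback.of_hasPullback g f, ?_⟩
    have : IsFinite f := hf
    exact MorphismProperty.pullback_fst (P := @IsFinite) g f this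
  h2 X Y f F' hF' := fromEt_pullBig f F' hF'
  h3 X F' hF' := isSheaf_fppf_of_fromEt F' hF'
  h4 X Y f _ hf F' hF' i := by
    haveI : IsFinite f := hf
    obtain ⟨e⟩ := rightDerived_iso_of_natIso (fToIso Scheme.etalePrecoverage.toGrothendieck f) i
    obtain ⟨F, ⟨eF⟩⟩ := hF'
    obtain ⟨e'⟩ := Groth.Agent.S12238.result f F i
    exact ⟨(EtCoh.Rpush f i).obj F,
      ⟨e' ≪≫ (BigSite.RpushBig Scheme.etalePrecoverage f i).mapIso eF ≪≫ e.app F'⟩⟩

/-- fppf covers are refined by étale covers followed by finite flat covers -/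
theorem refines : Refines (C := Scheme.{u}) Scheme.fppfPrecoverage.toGrothendieck
    Scheme.etalePrecoverage.toGrothendieck P := by
  intro U S hS
  obtain ⟨R₀, hR₀, hle⟩ := Precoverage.mem_toGrothendieck_iff_of_isStableUnderComposition.1 hS
  have hP := hR₀.2
  have hcov : ∀ x : U, ∃ (Z : Scheme.{u}) (g : Z ⟶ U), R₀ g ∧ x ∈ Set.range g := fun x => by
    obtain ⟨Z, g, hg, y, hy⟩ := Scheme.JointlySurjective.exists_eq R₀ hR₀ x
    exact ⟨Z, g, hg, y, hy⟩
  choose Z g hg hgx using hcov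
  haveI : ∀ x, Flat (g x) := fun x => (hP (hg x)).1
  haveI : ∀ x, LocallyOfFinitePresentation (g x) := fun x => (hP (hg x)).2
  haveI : Flat (Sigma.desc g) := IsZariskiLocalAtSource.sigmaDesc (fun _ => inferInstance)
  haveI : LocallyOfFinitePresentation (Sigma.desc g) := IsZariskiLocalAtSource.sigmaDesc (fun _ => inferInstance)
  haveI : Surjective (Sigma.desc g) := Surjective.sigmaDesc_of_union_range_eq_univ
    (Set.eq_univ_of_forall fun x => Set.mem_iUnion.2 ⟨x, hgx x⟩)
  choose V W e π he hse hπs hπf hπfl hπlfp hloc using Groth.Agent.S1379.result (Sigma.desc g)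
  refine ⟨U, V, e, Precoverage.generate_mem_toGrothendieck
    ((Scheme.ofArrows_mem_precoverage_iff _).2 ⟨fun x => ⟨x, hse x⟩, he⟩), fun s => ?_⟩
  haveI := hπs s; haveI := hπf s; haveI := hπfl s; haveI := hπlfp s
  refine ⟨W s, π s, hπf s, Precoverage.generate_mem_toGrothendieck
    ((Scheme.ofArrows_mem_precoverage_iff _).2
      ⟨fun x => ⟨PUnit.unit, (π s).surjective x⟩, fun _ => ⟨hπfl s, hπlfp s⟩⟩), ?_⟩
  have key : ∀ v : W s, ∃ (O : (W s).Opens) (x : U) (r : (O : Scheme.{u}) ⟶ Z x),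
      v ∈ O ∧ r ≫ g x = O.ι ≫ π s ≫ e s := fun v => by
    obtain ⟨O, r, hv, hr⟩ := hloc s v
    obtain ⟨x, z, hz⟩ := (sigmaOpenCover Z).exists_eq (r ⟨v, hv⟩)
    let ι := Sigma.ι Z x
    let O' : (W s).Opens := O.ι ''ᵁ (r ⁻¹ᵁ ι.opensRange)
    have hO' : O' ≤ O := by
      rintro _ ⟨y, -, rfl⟩
      exact y.2
    let a := (W s).homOfLE hO'
    have ha : Set.range (a ≫ r) ⊆ Set.range ι := by
      rintro _ ⟨⟨y, y', hy', rfl⟩, rfl⟩
      have : a ⟨O.ι y', y', hy', rfl⟩ = y' := O.ι.isOpenEmbedding.injective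
        ((Scheme.Hom.comp_apply _ _ _).symm.trans (congrArg (fun f => f ⟨O.ι y', y', hy', rfl⟩) ((W s).homOfLE_ι hO')))
      refine (?_ : r _ ∈ Set.range ι)
      erw [this]
      exact hy'
    refine ⟨O', x, IsOpenImmersion.lift ι (a ≫ r) ha, ⟨⟨v, hv⟩, ⟨z, hz⟩, rfl⟩, ?_⟩
    rw [show g x = ι ≫ Sigma.desc g from (Sigma.ι_desc g x).symm, IsOpenImmersion.lift_fac_assoc,
      Category.assoc, hr, Scheme.homOfLE_ι_assoc]
  choose O x r hv hr using key
  refine ⟨W s, fun v => (O v : Scheme.{u}), fun v => (O v).ι, Precoverage.generate_mem_toGrothendieck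
    ((Scheme.ofArrows_mem_precoverage_iff _).2
      ⟨fun v => ⟨v, ⟨v, hv v⟩, rfl⟩, fun v => inferInstanceAs (Etale (O v).ι)⟩), fun v => ?_⟩
  rw [← hr v]
  exact S.downward_closed (hle _ _ (hg (x v))) (r v)

/-- `R^i ε_*` vanishes on sheaves coming from the small étale site. -/
theorem isZero_rightDerived_εX (X : Scheme.{u}) (G : EtFppf.AbF X)
    (hG : fromEt X ((εX le X).obj G)) (i : ℕ) (hi : 1 ≤ i) :
    IsZero (((εX le X).rightDerived i).obj G) :=
  van_all sit refines i X G hG i hi le_rfl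

end Groth.Agent.CmpBig24.FppfEt
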