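import Groth.Agent.Lib.CmpBig24.Induction

/-! Comparing two topologies: the main vanishing theorem and its consequences. -/

universe u

open CategoryTheory CategoryTheory.Limits Opposite Abelian ZeroObject
open Groth.Agent.CmpSit16 (Syz syzOf nonempty_R_iso_cokernel nonempty_R1_iso nonempty_R_shift)

set_option autoImplicit false
set_option linter.style.haveILetI false
set_option linter.unusedSectionVars false
set_option backward.isDefEq.respectTransparency false
set_option backward.isDefEq.respectTransparency.types false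

namespace Groth.Agent.CmpBig24

noncomputable section

variable {C : Type (u + 1)} [Category.{u} C] [HasPullbacks C] [HasEqualizers C] {J J' : GrothendieckTopology C} {h : J' ≤ J}
  {P : MorphismProperty C} {A' : ∀ X : C, ObjectProperty (Sheaf (J'.over X) AddCommGrpCat.{u + 1})}
  [∀ X : C, WSerre.IsWeakSerre (A' X)] (hs : Sit P A' (J := J) (J' := J'))

variable (J J' P) in
/-- The hypothesis (5). -/
def Refines : Prop :=
  ∀ (U : C) (S : Sieve U), S ∈ J U → ∃ (ι : Type u) (V : ι → C) (v : ∀ j, V j ⟶ U),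
      Sieve.ofArrows V v ∈ J' U ∧ ∀ j, ∃ (W : C) (w : W ⟶ V j), P w ∧
        Sieve.ofArrows (fun _ : PUnit.{1} => W) (fun _ => w) ∈ J (V j) ∧
        ∃ (κ : Type u) (Wk : κ → C) (wk : ∀ k, Wk k ⟶ W), Sieve.ofArrows Wk wk ∈ J' W ∧
          ∀ k, S.arrows (wk k ≫ w ≫ v j)

theorem mem_over_of_ofArrows {K : GrothendieckTopology C} {X : C} (U : Over X) {ι : Type u} (V : ι → C)
    (v : ∀ j, V j ⟶ U.left) (hv : Sieve.ofArrows V v ∈ K U.left) :
    Sieve.ofArrows (fun j => Over.mk (v j ≫ U.hom)) (fun j => (Over.homMk (v j) : Over.mk (v j ≫ U.hom) ⟶ U)) ∈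
      (K.over X) U := by
  rw [GrothendieckTopology.mem_over_iff]
  refine K.superset_covering ?_ hv
  rintro W a ⟨W₀, b, e, he, rfl⟩
  obtain ⟨j⟩ := he
  rw [Sieve.overEquiv_iff]
  exact ⟨Over.mk (v j ≫ U.hom),
    (Over.homMk b (Category.assoc _ _ _).symm : Over.mk ((b ≫ v j) ≫ U.hom) ⟶ Over.mk (v j ≫ U.hom)),
    _, ⟨j⟩, Over.OverMorphism.ext rfl⟩

theorem lifts_map {Z X : C} (g : Z ⟶ X) {I S : Sheaf (J'.over X) AddCommGrpCat.{u + 1}} (p : I ⟶ S) (U : Over Z)
    (x : S.obj.obj (op ((Over.map g).obj U))) (hx : Lifts ((rMap J' g).map p) (U := U) x) : Lifts p x := by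
  refine (J'.over X).superset_covering ?_ ((GrothendieckTopology.over_map_coverPreserving J' g).cover_preserve hx)
  rintro V a ⟨W, b, c, ⟨t, ht⟩, rfl⟩
  refine ⟨I.obj.map c.op t, ?_⟩
  rw [NatTrans.naturality_apply, op_comp, Functor.map_comp, ConcreteCategory.comp_apply]
  exact congrArg (S.obj.map c.op) ht

theorem map_map {D : Type (u + 1)} [Category.{u} D] (F : Dᵒᵖ ⥤ AddCommGrpCat.{u + 1}) {U V W : D} (a : V ⟶ U) (b : W ⟶ V)
    (x : F.obj (op U)) : F.map b.op (F.map a.op x) = F.map (b ≫ a).op x := by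
  rw [op_comp, Functor.map_comp, ConcreteCategory.comp_apply]

theorem map_congr' {D : Type (u + 1)} [Category.{u} D] (F : Dᵒᵖ ⥤ AddCommGrpCat.{u + 1}) {U V : D} {a b : V ⟶ U}
    (e : a = b) (x : F.obj (op U)) : F.map a.op x = F.map b.op x := by rw [e]

include hs in
/-- The induction step. -/
theorem epi_step (h5 : Refines J J' P) {n : ℕ} (hV : Van h A' n) {X : C}
    (c : Syz (Sheaf (J.over X) AddCommGrpCat.{u + 1})) (hc : A' X ((εX h X).obj (c.S 0))) :
    Epi ((εX h X).map (c.p n)) := by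
  haveI : Epi (c.p n) := (c.shortExact n).epi_g
  rw [epi_iff_lifts]
  intro U x
  have hS := (epi_iff_lifts (c.p n)).1 inferInstance U x
  obtain ⟨ι, V, v, hv, hcov⟩ := h5 U.left _ (((J.mem_over_iff _).1 hS))
  refine lifts_of_local ((εX h X).map (c.p n)) x _ (mem_over_of_ofArrows U V v hv) ?_
  rintro Z a ⟨W₀, b, e, he, rfl⟩
  obtain ⟨j⟩ := he
  obtain ⟨W, w, hw, hwcov, κ, Wk, wk, hwk, hSk⟩ := hcov j
  haveI : HasPullbacksAlong w := hasPullbacksAlong hs hw
  let g : V j ⟶ X := v j ≫ U.hom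
  let m : (Over.map g).obj (Over.mk (𝟙 (V j))) ⟶ U :=
    Over.homMk (v j) (Category.id_comp g).symm
  have key : Lifts ((εX h X).map (c.p n)) ((c.S (n + 1)).obj.map m.op x) := by
    refine lifts_map g ((εX h X).map (c.p n)) (Over.mk (𝟙 (V j))) _ ?_
    refine lifts_top_of_cover hs w hw hwcov (c.map (rMap J g) (fun I hI => injective_rMap J g I hI))
      (mem_rMap h hs g _ hc) hV _ ?_
    refine (J'.over (V j)).superset_covering ?_ (mem_over_of_ofArrows (Over.mk w) Wk wk hwk)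
    rintro Y' a' ⟨W₁, b', e', he', rfl⟩
    obtain ⟨k⟩ := he'
    obtain ⟨t, ht⟩ := (Sieve.overEquiv_iff _ _).1 (hSk k)
    let m₂ : (Over.map g).obj (Over.mk (wk k ≫ w)) ⟶ Over.mk ((wk k ≫ w ≫ v j) ≫ U.hom) :=
      Over.homMk (𝟙 _) (by simp [g])
    let ν : Over.mk ((wk k ≫ w ≫ v j) ≫ U.hom) ⟶ U := Over.homMk (wk k ≫ w ≫ v j)
    have ht' : (c.p n).hom.app (op (Over.mk ((wk k ≫ w ≫ v j) ≫ U.hom))) t =
      (c.S (n + 1)).obj.map ν.op x := ht
    let A : Y' ⟶ Over.mk w := b' ≫ (Over.homMk (wk k) : Over.mk (wk k ≫ w) ⟶ Over.mk w)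
    let B : Over.mk w ⟶ Over.mk (𝟙 (V j)) := Over.homMk w (Category.comp_id w)
    refine ⟨(c.I n).obj.map ((Over.map g).map b' ≫ m₂).op t, ?_⟩
    refine ((NatTrans.naturality_apply (c.p n).hom ((Over.map g).map b' ≫ m₂).op t).trans
      (congrArg _ ht')).trans ((map_map (c.S (n + 1)).obj _ _ x).trans ?_)
    refine Eq.trans ?_ ((map_map (c.S (n + 1)).obj ((Over.map g).map B) ((Over.map g).map A) _).trans
      (map_map (c.S (n + 1)).obj m _ x)).symm
    refine map_congr' (c.S (n + 1)).obj ?_ x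
    apply Over.OverMorphism.ext
    simp [m₂, ν, m, A, B, g]
  let m' : Over.mk (v j ≫ U.hom) ⟶ (Over.map g).obj (Over.mk (𝟙 (V j))) :=
    Over.homMk (𝟙 (V j)) (by simp [g])
  refine GrothendieckTopology.superset_covering _ ?_ ((J'.over X).pullback_stable (b ≫ m') key)
  intro Y' a' ha'
  obtain ⟨t, ht⟩ := ha'
  refine ⟨t, ht.trans ?_⟩
  refine (map_map (c.S (n + 1)).obj m (a' ≫ b ≫ m') x).trans (Eq.trans ?_
    (map_map (c.S (n + 1)).obj (b ≫ (Over.homMk (v j) : Over.mk (v j ≫ U.hom) ⟶ U)) a' x).symm)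
  refine map_congr' (c.S (n + 1)).obj ?_ x
  apply Over.OverMorphism.ext
  simp [m', m]

include hs in
/-- `R^i ε_*` vanishes on the subcategory in all positive degrees. -/
theorem van_all (h5 : Refines J J' P) : ∀ n, Van h A' n
  | 0 => fun _ _ _ i hi hi' => absurd hi' (by omega)
  | n + 1 => fun Z G hG i hi hi' => by
    rcases Nat.lt_or_ge i (n + 1) with hlt | hge
    · exact van_all h5 n Z G hG i hi (by omega)
    · obtain rfl : i = n + 1 := by omega
      exact ((syzOf G).isZero_iff_epi (εX h Z) n).2 (epi_step hs h5 (van_all h5 n) (syzOf G) hG)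

include hs in
/-- The direct images commute with `ε_*` in degrees where `R ε_*` vanishes. -/
theorem nonempty_fTo_rightDerived_iso {n : ℕ} (hV : Van h A' n) {X Y : C} (f : X ⟶ Y) [HasPullbacksAlong f]
    (hf : P f) (F : Sheaf (J.over X) AddCommGrpCat.{u + 1}) (hF : A' X ((εX h X).obj F)) (i : ℕ) (hi : i ≤ n) :
    Nonempty (((fTo J' f).rightDerived i).obj ((εX h X).obj F) ≅
      (εX h Y).obj (((fTo J f).rightDerived i).obj F)) := by
  cases i with
  | zero =>
    exact ⟨(fTo J' f).rightDerivedZeroIsoSelf.app _ ≪≫ ((εX h Y).mapIso ((fTo J f).rightDerivedZeroIsoSelf.app F)).symm⟩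
  | succ j =>
    let c := syzOf F
    haveI : Injective ((c.sc j).map (εX h X)).X₂ := injective_εA (over_le h X) _ (c.inj j)
    obtain ⟨e₁⟩ := nonempty_R_iso_cokernel (fTo J' f) (fun k => (εX h X).obj (c.S k)) j
      (fun k hk => ⟨(c.sc k).map (εX h X), shortExact_εX hV c hF k (by omega),
        injective_εA (over_le h X) _ (c.inj k), rfl, rfl⟩)
      (shortExact_εX hV c hF j (by omega)) rfl
    obtain ⟨e₂⟩ := c.nonempty_R_iso (fTo J f) j
    have hm : A' Y (cokernel ((εX h Y).map ((fTo J f).map (c.p j)))) :=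
      (A' Y).prop_of_iso e₁ (mem_fTo_rightDerived hs f hf _ hF (j + 1))
    obtain ⟨-, ⟨e₃⟩⟩ := epi_εA_cokernel _ ((fTo J f).map (c.p j)) (hs.h3 Y _ hm)
    exact ⟨e₁ ≪≫ e₃.symm ≪≫ (εX h Y).mapIso e₂.symm⟩

include hs in
theorem isWeakSerre_inverseImage (h5 : Refines J J' P) (X : C) :
    WSerre.IsWeakSerre ((A' X).inverseImage (εX h X)) := by
  let Q := (A' X).inverseImage (εX h X)
  haveI : Q.ContainsZero := ⟨⟨0, isZero_zero _,
    (A' X).prop_of_iso (εX h X).mapZeroObject.symm ((A' X).prop_zero)⟩⟩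
  haveI : Q.IsClosedUnderIsomorphisms := inferInstance
  haveI : Q.IsClosedUnderKernels := ⟨fun K hK => by
    obtain ⟨f₀, k, hk, hX, hY⟩ := hK
    refine (A' X).prop_of_isLimit_kernelFork (KernelFork.isLimitMapConeEquiv _ _ (isLimitOfPreserves (εX h X) hk)) hX hY⟩
  haveI : Q.IsClosedUnderCokernels := ⟨fun K hK => by
    obtain ⟨f₀, k, hk, hX, hY⟩ := hK
    have hm : A' X (cokernel ((εX h X).map f₀)) := (A' X).prop_cokernel _ hX hY
    obtain ⟨-, ⟨e⟩⟩ := epi_εA_cokernel _ f₀ (hs.h3 X _ hm)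
    exact (A' X).prop_of_iso
      (((εX h X).mapIso (hk.coconePointUniqueUpToIso (cokernelIsCokernel f₀))) ≪≫ e).symm hm⟩
  haveI : Q.IsClosedUnderExtensions := ⟨fun {S} hS h₁ h₃ => by
    letI := HasDerivedCategory.standard (Sheaf (J.over X) AddCommGrpCat.{u + 1})
    letI := HasDerivedCategory.standard (Sheaf (J'.over X) AddCommGrpCat.{u + 1})
    exact (A' X).prop_X₂_of_shortExact
      (RFPlus.shortExact_map_of_isZero (εX h X) S hS (van_all hs h5 1 X S.X₁ h₁ 1 le_rfl le_rfl)) h₁ h₃⟩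
  exact {}

end

end Groth.Agent.CmpBig24
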