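import Groth.Agent.Lib.BigSite16.LanExact
import Groth.Agent.Lib.CmpSit16.Coho
import Mathlib.CategoryTheory.Sites.Over
import Mathlib.CategoryTheory.Sites.CoverLifting
import Mathlib.CategoryTheory.Abelian.GrothendieckCategory.EnoughInjectives
import Mathlib.CategoryTheory.Abelian.GrothendieckAxioms.Sheaf
import Mathlib.CategoryTheory.Limits.Constructions.Over.Connected
import Mathlib.CategoryTheory.Sites.EpiMono
import Mathlib.Algebra.Homology.ShortComplex.Ab

/-! Restriction to slices, direct image along base change, change of topology: basic exactness. -/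

universe u

open CategoryTheory CategoryTheory.Limits Opposite Abelian
open Groth.Agent.CmpSit16 (Syz syzOf nonempty_R_iso_cokernel nonempty_R1_iso nonempty_R_shift)

set_option autoImplicit false
set_option linter.style.haveILetI false
set_option linter.unusedSectionVars false
set_option backward.isDefEq.respectTransparency false
set_option backward.isDefEq.respectTransparency.types false

namespace Groth.Agent.CmpBig24

noncomputable section

/-- abelian sheaves on a locally small large site form a Grothendieck abelian category -/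
instance isGrothendieckAbelian_sheaf {D : Type (u + 1)} [Category.{u} D] (T : GrothendieckTopology D) :
    IsGrothendieckAbelian.{u + 1} (Sheaf T AddCommGrpCat.{u + 1}) := by
  have : EssentiallySmall.{u + 1} D := inferInstance
  exact Sheaf.isGrothendieckAbelian_of_essentiallySmall _ _

section Sheaves

variable {D : Type (u + 1)} [Category.{u} D] {T : GrothendieckTopology D} {F G : Sheaf T AddCommGrpCat.{u + 1}}

/-- A section lifts locally along a map. -/
def Lifts (φ : F ⟶ G) {U : D} (s : G.obj.obj (op U)) : Prop := Presheaf.imageSieve φ.hom s ∈ T U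

theorem epi_iff_lifts (φ : F ⟶ G) : Epi φ ↔ ∀ (U : D) (s : G.obj.obj (op U)), Lifts φ s := by
  rw [← Sheaf.isLocallySurjective_iff_epi' _ φ]
  exact ⟨fun h U s => h.imageSieve_mem s, fun h => ⟨fun s => h _ s⟩⟩

/-- Sections at an object. -/
abbrev secFun (T : GrothendieckTopology D) (U : D) : Sheaf T AddCommGrpCat.{u + 1} ⥤ AddCommGrpCat.{u + 1} :=
  sheafToPresheaf T AddCommGrpCat.{u + 1} ⋙ (evaluation Dᵒᵖ AddCommGrpCat.{u + 1}).obj (op U)

theorem sec_injective (φ : F ⟶ G) [Mono φ] (U : D) : Function.Injective (φ.hom.app (op U)) :=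
  (AddCommGrpCat.mono_iff_injective _).1 (inferInstanceAs (Mono ((secFun T U).map φ)))

theorem exists_lift_of_exact {H : Sheaf T AddCommGrpCat.{u + 1}} (f : F ⟶ G) (g : G ⟶ H) (w : f ≫ g = 0)
    (hex : (ShortComplex.mk f g w).Exact) [Mono f] {U : D} (s : G.obj.obj (op U))
    (hs : g.hom.app (op U) s = 0) : ∃ t, f.hom.app (op U) t = s := by
  have h := hex.map_of_mono_of_preservesKernel (secFun T U) (inferInstanceAs (Mono f)) inferInstance
  exact (ShortComplex.ab_exact_iff _).1 h s hs

theorem sep {U : D} {S : Sieve U} (hS : S ∈ T U) (x y : G.obj.obj (op U))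
    (h : ∀ ⦃V : D⦄ (g : V ⟶ U), S g → G.obj.map g.op x = G.obj.map g.op y) : x = y :=
  Presheaf.IsSheaf.isSeparated G.property U S hS x y h

theorem π_eq_zero_of_lifts (φ : F ⟶ G) {U : D} (s : G.obj.obj (op U)) (h : Lifts φ s) :
    (cokernel.π φ).hom.app (op U) s = 0 := by
  refine sep h _ _ fun V g hg => ?_
  obtain ⟨t, ht⟩ := hg
  rw [map_zero, ← NatTrans.naturality_apply, ← ht]
  exact ConcreteCategory.congr_hom
    (NatTrans.congr_app (congrArg (sheafToPresheaf T AddCommGrpCat.{u + 1}).map (cokernel.condition φ)) (op V)) t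

theorem lifts_of_π_eq_zero (φ : F ⟶ G) {U : D} (s : G.obj.obj (op U))
    (h : (cokernel.π φ).hom.app (op U) s = 0) : Lifts φ s := by
  obtain ⟨t, ht⟩ := exists_lift_of_exact (Abelian.image.ι φ) (cokernel.π φ) (kernel.condition _)
    (ShortComplex.exact_of_f_is_kernel _ (kernelIsKernel _)) s h
  refine T.superset_covering (fun V g hg => ?_) ((epi_iff_lifts (Abelian.factorThruImage φ)).1 inferInstance U t)
  obtain ⟨a, ha⟩ := hg
  refine ⟨a, ?_⟩
  rw [← ht, ← NatTrans.naturality_apply, ← ha, ← ConcreteCategory.comp_apply]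
  exact (ConcreteCategory.congr_hom
    (NatTrans.congr_app (congrArg (sheafToPresheaf T AddCommGrpCat.{u + 1}).map (Abelian.image.fac φ)) (op V)) a).symm

end Sheaves

section Slices

variable {C : Type (u + 1)} [Category.{u} C] [HasPullbacks C] [HasEqualizers C] (J : GrothendieckTopology C)

/-- Restriction along a map of bases. -/
abbrev rMap {Z X : C} (g : Z ⟶ X) : Sheaf (J.over X) AddCommGrpCat.{u + 1} ⥤ Sheaf (J.over Z) AddCommGrpCat.{u + 1} :=
  (Over.map g).sheafPushforwardContinuous AddCommGrpCat.{u + 1} (J.over Z) (J.over X)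

instance preservesFiniteLimits_rMap {Z X : C} (g : Z ⟶ X) : PreservesFiniteLimits (rMap J g) := by
  haveI : (rMap J g).IsRightAdjoint :=
    ((Over.map g).sheafAdjunctionContinuous AddCommGrpCat.{u + 1} (J.over Z) (J.over X)).isRightAdjoint
  infer_instance

instance preservesFiniteColimits_rMap {Z X : C} (g : Z ⟶ X) : PreservesFiniteColimits (rMap J g) := by
  haveI : (rMap J g).IsLeftAdjoint :=
    ((Over.map g).sheafAdjunctionCocontinuous AddCommGrpCat.{u + 1} (J.over Z) (J.over X)).isLeftAdjoint
  infer_instance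

instance additive_rMap {Z X : C} (g : Z ⟶ X) : (rMap J g).Additive :=
  Functor.additive_of_preserves_binary_products _

theorem injective_rMap {Z X : C} (g : Z ⟶ X) (I : Sheaf (J.over X) AddCommGrpCat.{u + 1}) (hI : Injective I) :
    Injective ((rMap J g).obj I) := by
  haveI : PreservesLimitsOfShape WalkingCospan (Over.map g) := by
    haveI : PreservesLimitsOfShape WalkingCospan (Over.map g ⋙ Over.forget X) :=
      inferInstanceAs (PreservesLimitsOfShape WalkingCospan (Over.forget Z))
    exact preservesLimitsOfShape_of_reflects_of_preserves _ (Over.forget X)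
  haveI : PreservesLimitsOfShape WalkingParallelPair (Over.map g) := by
    haveI : PreservesLimitsOfShape WalkingParallelPair (Over.map g ⋙ Over.forget X) :=
      inferInstanceAs (PreservesLimitsOfShape WalkingParallelPair (Over.forget Z))
    exact preservesLimitsOfShape_of_reflects_of_preserves _ (Over.forget X)
  haveI : PreservesFiniteLimits ((Over.map g).sheafPullback AddCommGrpCat.{u + 1} (J.over Z) (J.over X)) :=
    BigSite16.preservesFiniteLimits_sheafPullback.{u + 1} (Over.map g) _ _
  exact Injective.injective_of_adjoint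
    ((Over.map g).sheafAdjunctionContinuous AddCommGrpCat.{u + 1} (J.over Z) (J.over X)) I

variable {X Y : C} (f : X ⟶ Y) [HasPullbacksAlong f]

instance isContinuous_pullback : (Over.pullback f).IsContinuous (J.over Y) (J.over X) :=
  (Over.mapPullbackAdj f).isContinuous_of_isCocontinuous _ _

/-- Direct image along base change. -/
abbrev fTo : Sheaf (J.over X) AddCommGrpCat.{u + 1} ⥤ Sheaf (J.over Y) AddCommGrpCat.{u + 1} :=
  (Over.pullback f).sheafPushforwardContinuous AddCommGrpCat.{u + 1} (J.over Y) (J.over X)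

/-- Restriction and direct image. -/
def fToAdj : rMap J f ⊣ fTo J f :=
  (Over.mapPullbackAdj f).sheafPushforwardContinuous (E := AddCommGrpCat.{u + 1}) (J.over X) (J.over Y)

instance preservesFiniteLimits_fTo : PreservesFiniteLimits (fTo J f) := by
  haveI : (fTo J f).IsRightAdjoint := (fToAdj J f).isRightAdjoint
  infer_instance

instance additive_fTo : (fTo J f).Additive :=
  Functor.additive_of_preserves_binary_products _

theorem injective_fTo (I : Sheaf (J.over X) AddCommGrpCat.{u + 1}) (hI : Injective I) :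
    Injective ((fTo J f).obj I) :=
  (fToAdj J f).map_injective I hI

/-- The direct image is Mathlib's cocontinuous pushforward. -/
def fToIso : fTo J f ≅ (Over.map f).sheafPushforwardCocontinuous AddCommGrpCat.{u + 1} (J.over X) (J.over Y) :=
  (fToAdj J f).rightAdjointUniq
    ((Over.map f).sheafAdjunctionCocontinuous AddCommGrpCat.{u + 1} (J.over X) (J.over Y))

/-- `f_* f^*`. -/
abbrev fPP : Sheaf (J.over Y) AddCommGrpCat.{u + 1} ⥤ Sheaf (J.over Y) AddCommGrpCat.{u + 1} :=
  rMap J f ⋙ fTo J f

theorem fToAdj_unit (G : Sheaf (J.over Y) AddCommGrpCat.{u + 1}) (Z : Over Y) (s : G.obj.obj (op Z)) :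
    ((fToAdj J f).unit.app G).hom.app (op Z) s = G.obj.map ((Over.mapPullbackAdj f).counit.app Z).op s := rfl

theorem mono_unit (hf : Sieve.ofArrows (fun _ : PUnit.{1} => X) (fun _ => f) ∈ J Y)
    (G : Sheaf (J.over Y) AddCommGrpCat.{u + 1}) : Mono ((fToAdj J f).unit.app G) := by
  haveI : Mono ((sheafToPresheaf _ _).map ((fToAdj J f).unit.app G)) := by
    haveI : ∀ U, Mono (((fToAdj J f).unit.app G).hom.app U) := fun U => by
      rw [AddCommGrpCat.mono_iff_injective]
      obtain ⟨Z⟩ := U
      intro s t hst
      let S : Sieve Z := Sieve.ofArrows (fun _ : PUnit.{1} => (Over.map f).obj ((Over.pullback f).obj Z))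
        fun _ => (Over.mapPullbackAdj f).counit.app Z
      refine sep (S := S) ?_ s t ?_
      · rw [GrothendieckTopology.mem_over_iff]
        refine J.superset_covering ?_ (J.pullback_stable Z.hom hf)
        rintro V a ⟨_, b, _, ⟨⟩, hb⟩
        rw [Sieve.overEquiv_iff]
        exact ⟨(Over.map f).obj ((Over.pullback f).obj Z), (Over.homMk (pullback.lift a b hb.symm) (by
            change pullback.lift a b hb.symm ≫ pullback.snd _ _ ≫ f = a ≫ Z.hom
            rw [pullback.lift_snd_assoc, hb]) : Over.mk (a ≫ Z.hom) ⟶ (Over.map f).obj ((Over.pullback f).obj Z)),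
          (Over.mapPullbackAdj f).counit.app Z, ⟨PUnit.unit⟩,
          Over.OverMorphism.ext (by simp)⟩
      · rintro V a ⟨_, b, _, ⟨⟩, rfl⟩
        rw [op_comp, Functor.map_comp, ConcreteCategory.comp_apply, ConcreteCategory.comp_apply]
        exact congrArg _ hst
    exact @NatTrans.mono_of_mono_app _ _ _ _ _ _ ((fToAdj J f).unit.app G).hom this
  exact (sheafToPresheaf _ _).mono_of_mono_map this

end Slices

section Eps

variable {C : Type (u + 1)} [Category.{u} C] [HasPullbacks C] [HasEqualizers C] {J J' : GrothendieckTopology C} (h : J' ≤ J)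

theorem idContinuous {J J' : GrothendieckTopology C} (h : J' ≤ J) : (𝟭 C).IsContinuous J' J where
  op_comp_isSheaf_of_types G :=
    Presieve.isSheaf_of_le _ h ((isSheaf_iff_isSheaf_of_type _ _).1 G.2)

theorem over_le {J J' : GrothendieckTopology C} (h : J' ≤ J) (X : C) : J'.over X ≤ J.over X := by
  intro Y S hS
  rw [GrothendieckTopology.mem_over_iff] at hS ⊢
  exact h _ hS

/-- a sheaf for the finer topology is a sheaf for the coarser -/
abbrev epsSh {J J' : GrothendieckTopology C} (h : J' ≤ J) :
    Sheaf J AddCommGrpCat.{u + 1} ⥤ Sheaf J' AddCommGrpCat.{u + 1} :=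
  haveI := idContinuous h
  (𝟭 C).sheafPushforwardContinuous AddCommGrpCat.{u + 1} J' J

/-- Regarding a sheaf for the finer topology as a sheaf for the coarser. -/
abbrev εA : Sheaf J AddCommGrpCat.{u + 1} ⥤ Sheaf J' AddCommGrpCat.{u + 1} := epsSh h

instance full_εA : (εA h).Full where
  map_surjective φ := ⟨⟨φ.hom⟩, rfl⟩

instance faithful_εA : (εA h).Faithful where
  map_injective {F G} φ ψ he := by
    ext U x
    exact ConcreteCategory.congr_hom (NatTrans.congr_app (congrArg (sheafToPresheaf J' _).map he) U) x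

instance preservesFiniteLimits_εA : PreservesFiniteLimits (εA h) := by
  haveI := idContinuous h
  haveI : (εA h).IsRightAdjoint :=
    ((𝟭 C).sheafAdjunctionContinuous AddCommGrpCat.{u + 1} J' J).isRightAdjoint
  infer_instance

instance additive_εA : (εA h).Additive :=
  Functor.additive_of_preserves_binary_products _

theorem injective_εA (I : Sheaf J AddCommGrpCat.{u + 1}) (hI : Injective I) : Injective ((εA h).obj I) := by
  haveI := idContinuous h
  haveI : PreservesFiniteLimits ((𝟭 C).sheafPullback AddCommGrpCat.{u + 1} J' J) :=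
    BigSite16.preservesFiniteLimits_sheafPullback.{u + 1} (𝟭 C) _ _
  exact ((𝟭 C).sheafAdjunctionContinuous AddCommGrpCat.{u + 1} J' J).map_injective I hI

theorem exists_epsSh_obj_eq (G' : Sheaf J' AddCommGrpCat.{u + 1}) (hG : Presheaf.IsSheaf J G'.obj) :
    ∃ G : Sheaf J AddCommGrpCat.{u + 1}, Nonempty ((εA h).obj G ≅ G') :=
  ⟨⟨G'.obj, hG⟩, ⟨Iso.refl _⟩⟩

variable {F G : Sheaf J AddCommGrpCat.{u + 1}} (φ : F ⟶ G)

theorem epi_εA_cokernel (hφ : Presheaf.IsSheaf J (cokernel ((εA h).map φ)).obj) :
    Epi ((εA h).map (cokernel.π φ)) ∧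
      Nonempty ((εA h).obj (cokernel φ) ≅ cokernel ((εA h).map φ)) := by
  obtain ⟨Q, ⟨e⟩⟩ := exists_epsSh_obj_eq h _ hφ
  let q : G ⟶ Q := (εA h).preimage (cokernel.π ((εA h).map φ) ≫ e.inv)
  have hq : (εA h).map q = cokernel.π ((εA h).map φ) ≫ e.inv := Functor.map_preimage _ _
  have w : φ ≫ q = 0 := (εA h).map_injective (by
    rw [Functor.map_comp, hq, cokernel.condition_assoc, zero_comp, Functor.map_zero])
  let k : cokernel φ ⟶ Q := cokernel.desc φ q w
  let l : Q ⟶ cokernel φ := (εA h).preimage (e.hom ≫ cokernel.desc ((εA h).map φ) ((εA h).map (cokernel.π φ))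
    (by rw [← Functor.map_comp, cokernel.condition, Functor.map_zero]))
  have hl : q ≫ l = cokernel.π φ := (εA h).map_injective (by
    rw [Functor.map_comp, hq, Functor.map_preimage, Category.assoc, e.inv_hom_id_assoc, cokernel.π_desc])
  let i : cokernel φ ≅ Q :=
    { hom := k
      inv := l
      hom_inv_id := coequalizer.hom_ext (by
        rw [← Category.assoc, cokernel.π_desc, hl, Category.comp_id])
      inv_hom_id := by
        apply (εA h).map_injective
        rw [Functor.map_comp, Functor.map_preimage, CategoryTheory.Functor.map_id, Category.assoc,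
          ← e.hom_inv_id]
        congr 1
        apply coequalizer.hom_ext
        rw [cokernel.π_desc_assoc, ← Functor.map_comp, cokernel.π_desc, hq] }
  refine ⟨?_, ⟨(εA h).mapIso i ≪≫ e⟩⟩
  rw [← hl, Functor.map_comp, hq]
  haveI : IsIso ((εA h).map l) := inferInstanceAs (IsIso ((εA h).mapIso i.symm).hom)
  infer_instance

end Eps

end

end Groth.Agent.CmpBig24
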